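import Cfsg.Agent.Lib.DC.J4b.Defs

set_option autoImplicit false
set_option maxRecDepth 100000
set_option Elab.async false
set_option linter.unusedSectionVars false

namespace Cfsg.Agent.DC.J4b
open Cfsg.Agent.CG

theorem c0 : allLt (fun a => Nat.beq (iv a) (nth CG.M24p.invL 23 a)) 256 = true := by decide +kernel
theorem c1 : band (blt ivT (Nat.pow 2 2048)) (blt CG.M24p.invL.length 256) = true := by decide +kernel
theorem c2 : allLt (fun a => blt (iv a) 256) 256 = true := by decide +kernel
theorem c3 : rules.all (ruleChk iv rels0 lrels idx) = true := by decide +kernel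
theorem c4 : allRange (chk CG.M24p.app iv CG.M24p.bs false facts nd rules) 0 1134 = true := by decide +kernel
theorem c5 : allRange (chk CG.M24p.app iv CG.M24p.bs false facts nd rules) 1134 1119 = true := by decide +kernel
theorem c6 : allRange (chk CG.M24p.app iv CG.M24p.bs false facts nd rules) 2253 1116 = true := by decide +kernel
theorem c7 : allRange (chk CG.M24p.app iv CG.M24p.bs false facts nd rules) 3369 1124 = true := by decide +kernel
theorem c8 : allRange (chk CG.M24p.app iv CG.M24p.bs false facts nd rules) 4493 1117 = true := by decide +kernel
theorem c9 : allRange (chk CG.M24p.app iv CG.M24p.bs false facts nd rules) 5610 612 = true := by decide +kernel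
theorem c10 : allRange (rowChk facts 6222 2048 3 pts J rw) 0 2048 = true := by decide +kernel

end Cfsg.Agent.DC.J4b
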