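import Cfsg.Agent.Lib.Grp.M24p.Main
import Cfsg.Agent.Lib.DC.J4b.C0

set_option autoImplicit false
set_option maxRecDepth 100000
set_option Elab.async false
set_option linter.unusedSectionVars false

namespace Cfsg.Agent.DC.J4b
open Cfsg.Agent.CG

variable [_root_.Fact (Bounds CG.M24p.tcR CG.M24p.tcS 244823040)] {Γ : Type*} [Group Γ] {f : CG.M24p.PG →* Γ} {τ z : ℕ → Γ} {L : Subgroup Γ}

theorem hiv : ∀ a, CG.M24p.act.gen (iv a) = (CG.M24p.act.gen a)⁻¹ := fun a =>
  (congrArg CG.M24p.act.gen (ivX_eq c0 c1 a)).trans (CG.M24p.hinv a)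

theorem h256 : ∀ a, a < 256 → iv a < 256 := fun a ha => (blt_iff _ _).1 ((allLt_iff _ _).1 c2 a ha)

theorem all : allRange (chk CG.M24p.app iv CG.M24p.bs false facts nd rules) 0 6222 = true :=
  (rapp (allRange (chk CG.M24p.app iv CG.M24p.bs false facts nd rules)) (fun _ _ _ => allRange_append) 6222 (rapp (allRange (chk CG.M24p.app iv CG.M24p.bs false facts nd rules)) (fun _ _ _ => allRange_append) 5610 (rapp (allRange (chk CG.M24p.app iv CG.M24p.bs false facts nd rules)) (fun _ _ _ => allRange_append) 4493 (rapp (allRange (chk CG.M24p.app iv CG.M24p.bs false facts nd rules)) (fun _ _ _ => allRange_append) 3369 (rapp (allRange (chk CG.M24p.app iv CG.M24p.bs false facts nd rules)) (fun _ _ _ => allRange_append) 2253 c4 c5 rfl rfl) c6 rfl rfl) c7 rfl rfl) c8 rfl rfl) c9 rfl rfl)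

theorem sem (hz : ∀ i, z i ∈ Subgroup.center Γ) (hrel : ∀ r ∈ rels, ev (tokv CG.M24p.act.gen f τ) r.1 = zv z r.2)
    (hL : ∀ g, f g ∈ L) (hl : ∀ r ∈ lrels, ev (tokv CG.M24p.act.gen f τ) r ∈ L) :
    ∀ j, j < 6222 → Sem CG.M24p.act false facts nd rules f τ z L (facts.get j) :=
  sound (env_of_chk (lrels := lrels) (idx := idx) CG.M24p.base hiv hz (rels01 hrel) (fun _ => hL) (fun _ => hl) c2 c3) all

theorem finite [Finite L] (hM : ∀ i, z i ∈ L) (hz : ∀ i, z i ∈ Subgroup.center Γ) (hrel : ∀ r ∈ rels, ev (tokv CG.M24p.act.gen f τ) r.1 = zv z r.2)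
    (hL : ∀ g, f g ∈ L) (hl : ∀ r ∈ lrels, ev (tokv CG.M24p.act.gen f τ) r ∈ L) :
    Finite (Subgroup.closure {t | ∃ x ∈ J, t = tau τ x.1}) :=
  finite_of_rows (sem hz hrel hL hl) hM_I hM (M := L) (pts := pts) (by decide +kernel) (by decide) c10


end Cfsg.Agent.DC.J4b
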