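import Cfsg.Agent.Lib.DC.J4b.D0
import Cfsg.Agent.Lib.Grp.M24p.Defs

set_option autoImplicit false
set_option maxRecDepth 100000
set_option Elab.async false
set_option linter.unusedSectionVars false

namespace Cfsg.Agent.DC.J4b
open Cfsg.Agent.CG

noncomputable def facts : Tr Fact := (.node (.node (.node (.node (.node facts_0 facts_16) (.node facts_8 facts_24)) (.node (.node facts_4 facts_20) (.node facts_12 facts_28))) (.node (.node (.node facts_2 facts_18) (.node facts_10 facts_26)) (.node (.node facts_6 facts_22) (.node facts_14 facts_30)))) (.node (.node (.node (.node facts_1 facts_17) (.node facts_9 facts_25)) (.node (.node facts_5 facts_21) (.node facts_13 facts_29))) (.node (.node (.node facts_3 facts_19) (.node facts_11 facts_27)) (.node (.node facts_7 facts_23) (.node facts_15 facts_31)))))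
noncomputable def pts : Tr (ℕ × ℕ) := (.node (.node (.node (.node pts_0 pts_8) (.node pts_4 pts_12)) (.node (.node pts_2 pts_10) (.node pts_6 pts_14))) (.node (.node (.node pts_1 pts_9) (.node pts_5 pts_13)) (.node (.node pts_3 pts_11) (.node pts_7 pts_15))))
noncomputable def rwT : Tr ℕ := (.node (.node (.node (.leaf rwT_0) (.leaf rwT_4)) (.leaf rwT_2)) (.node (.leaf rwT_1) (.leaf rwT_3)))
noncomputable def nd : ℕ → ℕ := (fun i => look 0xffffff ndT (Nat.mul 24 i))
noncomputable def ivT : ℕ := nat_lit 0x2010403060518071a191c1b1e1d101f12111413161517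
noncomputable abbrev iv : ℕ → ℕ := ivX ivT 23
noncomputable def rels : List (List ℕ × List ℤ) := [([256,256], []),
  ([17,20,17,0,12,19,1,22,10,18,256,17,9,21,2,20,11,0,18,19,18,257], []),
  ([18,19,22,0,13,15,18,10,0,14,256,13,0,9,17,16,14,0,21,20,17,257], []),
  ([22,12,22,12,14,4,11,15,256,16,12,3,13,11,21,11,21,257], []),
  ([21,11,16,12,2,11,256,12,1,11,15,12,22,257], []),
  ([20,17,14,19,18,11,3,15,17,256,18,16,4,12,17,20,13,18,19,257], []),
  ([17,17,19,0,13,16,20,18,2,16,2,256,1,15,1,17,19,15,14,0,20,18,18,257], []),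
  ([256,17,20,12,19,18,12,3,6,19,256,18,10,5,2,15,14,16,0,20,257,8,3,7,15,11,14,14,21,18], []),
  ([0,259], []),
  ([1,261], [])]
noncomputable def lrels : List (List ℕ) := []
noncomputable abbrev rels0 : List (List ℕ × List ℤ) := ([], []) :: ([256, 257], []) :: rels
noncomputable def idx : List (ℕ × ℕ) := [(257, 2)]
noncomputable def rw : ℕ → ℕ := (fun i => lk2 rwT 0xffffffffffff (Nat.mul 48 i))
noncomputable def J : List (ℕ × ℕ) := [(1,0),(2,1),(3,2)]

end Cfsg.Agent.DC.J4b
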